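import Cfsg.Agent.CharDeep.Small.PrimeDegrees
import Cfsg.Prelude.Def_DegreeGraph

/-!
# Three primes among the character degrees of a nonsolvable group

If `S` is nonabelian simple, `p` a prime divisor of the order and `z ≠ 1` is central in a Sylow
`p`-subgroup, then the nontrivial characters of `p`-power degree vanish at `z`, so the regular
character at `z` shows that some nontrivial degree is neither a power of `p` nor divisible by `q`.
-/

set_option autoImplicit false

namespace Cfsg.Agent.DegPrimes72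

open CharDeep

universe u

/-- Some nontrivial degree of a nonabelian simple group has a prime divisor other than `p`, `q`. -/
theorem exists_third {G : Type u} [Group G] [Finite G] [IsSimpleGroup G]
    (hnc : ¬ ∀ a b : G, a * b = b * a) {p q : ℕ} (hp : p.Prime) (hpG : p ∣ Nat.card G)
    (hq : q.Prime) :
    ∃ r, r ∈ Cfsg.degreePrimes G ∧ r ≠ p ∧ r ≠ q := by
  classical
  haveI := Fintype.ofFinite G
  haveI : Fact p.Prime := ⟨hp⟩
  by_contra hno
  push Not at hno
  obtain ⟨P⟩ := (inferInstance : Nonempty (Sylow p G))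
  haveI : Nontrivial (P : Subgroup G) :=
    (Subgroup.nontrivial_iff_ne_bot _).mpr (P.ne_bot_of_dvd_card hpG)
  haveI := P.2.center_nontrivial
  obtain ⟨z, hz⟩ := exists_ne (1 : Subgroup.center (P : Subgroup G))
  set x : G := ((z : (P : Subgroup G)) : G) with hx
  have hx1 : x ≠ 1 := fun h => hz (Subtype.ext (Subtype.ext (by simpa [hx] using h)))
  have hindex : ¬ p ∣ (Subgroup.centralizer ({x} : Set G)).index := by
    refine fun hh => P.not_dvd_index (hh.trans (Subgroup.index_dvd_of_le fun y hy => ?_))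
    refine Subgroup.mem_centralizer_singleton_iff.mpr ?_
    exact (congrArg Subtype.val (Subgroup.mem_center_iff.mp z.2 ⟨y, hy⟩))
  obtain ⟨hlin, -, -⟩ := Small.simple_facts hnc
  let χ₀ : Cfsg.IrrCharacter G := ⟨fun _ => 1, CharCore.isIrrCharacter_one⟩
  -- each character contributes a multiple of `q`, except the principal one, which gives one
  have key : ∀ χ : Cfsg.IrrCharacter G, ∃ a : ℂ, IsIntegral ℤ a ∧
      (χ = χ₀ ∨ (χ : G → ℂ) 1 * (χ : G → ℂ) x = (q : ℂ) * a) := by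
    intro χ
    by_cases h1 : Cfsg.charDegree (χ : G → ℂ) = 1
    · exact ⟨0, isIntegral_zero, Or.inl (Subtype.ext (funext (hlin χ h1)))⟩
    obtain ⟨n, ρ, hρ, hchar⟩ := χ.2
    haveI := hρ
    have hint : IsIntegral ℤ ((χ : G → ℂ) x) := by
      rw [← hchar]; exact CharClifford.isIntegral_character ρ x
    by_cases hqd : q ∣ Cfsg.charDegree (χ : G → ℂ)
    · obtain ⟨m, hm⟩ := hqd
      refine ⟨(m : ℂ) * (χ : G → ℂ) x, (isIntegral_natCast m).mul hint, Or.inr ?_⟩
      rw [Deg.apply_one χ, hm, Nat.cast_mul, mul_assoc]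
    -- otherwise the degree is a power of `p` and the value is zero
    refine ⟨0, isIntegral_zero, Or.inr ?_⟩
    have hfin : Module.finrank ℂ (Fin n → ℂ) = Cfsg.charDegree (χ : G → ℂ) := by
      refine Nat.cast_injective (R := ℂ) ?_
      rw [← Representation.char_one ρ, hchar, Deg.apply_one χ]
    have hd0 : Cfsg.charDegree (χ : G → ℂ) ≠ 0 := (Deg.degree_pos χ).ne'
    have hcop : Nat.Coprime (Module.finrank ℂ (Fin n → ℂ))
        (Subgroup.centralizer ({x} : Set G)).index := by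
      rw [hfin]
      refine Nat.coprime_of_dvd fun r hr hrd hri => ?_
      by_cases hrp : r = p
      · exact hindex (hrp ▸ hri)
      · exact hqd ((hno r ⟨hr, _, ⟨χ, rfl⟩, hrd⟩ hrp) ▸ hrd)
    have hzero : (χ : G → ℂ) x = 0 := by
      rcases CharCore.eq_zero_or_norm_eq_of_coprime ρ x hcop with h0 | h0
      · rwa [hchar] at h0
      · rw [hchar, hfin] at h0
        refine absurd (Small.eq_one_of_norm hnc χ ⟨1, ?_⟩ h0) hx1
        rw [Deg.apply_one χ]
        exact_mod_cast h1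
    rw [hzero, mul_zero, mul_zero]
  choose a ha ha' using key
  have hsum := CharCore.sum_degree_mul_apply x
  rw [if_neg hx1, ← Finset.add_sum_erase _ _ (Finset.mem_univ χ₀),
    Finset.sum_congr rfl fun χ hχ => (ha' χ).resolve_left (Finset.ne_of_mem_erase hχ),
    ← Finset.mul_sum] at hsum
  set A := ∑ χ ∈ Finset.univ.erase χ₀, a χ with hA
  have hAint : IsIntegral ℤ A := IsIntegral.sum _ fun χ _ => ha χ
  have hq0 : (q : ℂ) ≠ 0 := Nat.cast_ne_zero.mpr hq.ne_zero
  have hAq : A = ((-1 / (q : ℚ) : ℚ) : ℂ) := by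
    simp only [χ₀, mul_one] at hsum
    push_cast
    field_simp
    linear_combination hsum
  rw [hAq] at hAint
  have h2 : IsIntegral ℤ (-1 / (q : ℚ)) :=
    (isIntegral_algHom_iff (algebraMap ℚ ℂ).toIntAlgHom (algebraMap ℚ ℂ).injective).mp
      (by simpa using hAint)
  obtain ⟨m, hm⟩ := IsIntegrallyClosed.isIntegral_iff.mp h2
  simp only [algebraMap_int_eq, eq_intCast] at hm
  rw [eq_div_iff (Nat.cast_ne_zero.mpr hq.ne_zero)] at hm
  have hm' : m * (q : ℤ) = -1 := by exact_mod_cast hm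
  exact hq.not_dvd_one (Int.natCast_dvd_natCast.mp ⟨-m, by push_cast; linarith⟩)

theorem three_of_simple {G : Type u} [Group G] [Finite G] [IsSimpleGroup G]
    (hnc : ¬ ∀ a b : G, a * b = b * a) :
    ∃ p q r : ℕ, p ≠ q ∧ q ≠ r ∧ p ≠ r ∧ p ∈ Cfsg.degreePrimes G ∧ q ∈ Cfsg.degreePrimes G ∧
      r ∈ Cfsg.degreePrimes G := by
  haveI := Fintype.ofFinite G
  have hdvd : ∀ r, r ∈ Cfsg.degreePrimes G → r ∣ Nat.card G := by
    rintro r ⟨-, _, ⟨χ, rfl⟩, hrd⟩
    exact hrd.trans (BlocksCore.charDegree_dvd_card χ)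
  have h1 : (Nat.card G) ≠ 1 := Finite.one_lt_card.ne'
  have hm := Nat.minFac_prime h1
  obtain ⟨r₁, hr₁, -, -⟩ := exists_third hnc hm (Nat.minFac_dvd _) hm
  obtain ⟨r₂, hr₂, h21, -⟩ := exists_third hnc hr₁.1 (hdvd r₁ hr₁) hr₁.1
  obtain ⟨r₃, hr₃, h31, h32⟩ := exists_third hnc hr₁.1 (hdvd r₁ hr₁) hr₂.1
  exact ⟨r₁, r₂, r₃, h21.symm, h32.symm, h31.symm, hr₁, hr₂, hr₃⟩

theorem degreePrimes_mono_normal {G : Type u} [Group G] [Finite G] (N : Subgroup G) [N.Normal] :
    Cfsg.degreePrimes N ⊆ Cfsg.degreePrimes G := by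
  rintro r ⟨hr, _, ⟨θ, rfl⟩, hrd⟩
  obtain ⟨χ, hχ⟩ := Deg.exists_dvd_of_normal N θ
  exact ⟨hr, _, ⟨χ, rfl⟩, hrd.trans hχ⟩

theorem degreePrimes_mono_quotient {G : Type u} [Group G] [Finite G] (N : Subgroup G) [N.Normal] :
    Cfsg.degreePrimes (G ⧸ N) ⊆ Cfsg.degreePrimes G := by
  rintro r ⟨hr, _, ⟨θ, rfl⟩, hrd⟩
  obtain ⟨χ, hχ, -⟩ := Deg.exists_inflate N θ
  exact ⟨hr, _, ⟨χ, rfl⟩, hχ ▸ hrd⟩

theorem three_of_not_solvable : ∀ (n : ℕ) (G : Type u) [Group G] [Finite G], Nat.card G = n →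
    ¬ Group.IsSolvable G →
    ∃ p q r : ℕ, p ≠ q ∧ q ≠ r ∧ p ≠ r ∧ p ∈ Cfsg.degreePrimes G ∧ q ∈ Cfsg.degreePrimes G ∧
      r ∈ Cfsg.degreePrimes G := by
  intro n
  induction n using Nat.strong_induction_on with
  | h n ih =>
  intro G _ _ hn hns
  subst hn
  have hnc : ¬ ∀ a b : G, a * b = b * a := fun h => hns (Group.isSolvable_of_comm h)
  haveI : Nontrivial G := by
    by_contra hh
    rw [not_nontrivial_iff_subsingleton] at hh
    exact hnc fun a b => Subsingleton.elim _ _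
  by_cases hsimple : ∀ N : Subgroup G, N.Normal → N = ⊥ ∨ N = ⊤
  · haveI : IsSimpleGroup G := ⟨hsimple⟩
    exact three_of_simple hnc
  push Not at hsimple
  obtain ⟨N, hN, hN1, hN2⟩ := hsimple
  by_cases hNs : Group.IsSolvable N
  · have hQ : ¬ Group.IsSolvable (G ⧸ N) := fun h =>
      hns (Group.isSolvable_of_ker_le_range N.subtype (QuotientGroup.mk' N) (by simp))
    have hlt : Nat.card (G ⧸ N) < Nat.card G := by
      rw [Subgroup.card_eq_card_quotient_mul_card_subgroup N]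
      exact lt_mul_of_one_lt_right Nat.card_pos ((Subgroup.one_lt_card_iff_ne_bot N).mpr hN1)
    obtain ⟨p, q, r, h1, h2, h3, hp, hq, hr⟩ := ih _ hlt (G ⧸ N) rfl hQ
    exact ⟨p, q, r, h1, h2, h3, degreePrimes_mono_quotient N hp, degreePrimes_mono_quotient N hq,
      degreePrimes_mono_quotient N hr⟩
  · have hlt : Nat.card N < Nat.card G := lt_of_le_of_ne (Subgroup.card_le_card_group N)
      fun hh => hN2 (Subgroup.card_eq_iff_eq_top N |>.mp hh)
    obtain ⟨p, q, r, h1, h2, h3, hp, hq, hr⟩ := ih _ hlt N rfl hNs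
    exact ⟨p, q, r, h1, h2, h3, degreePrimes_mono_normal N hp, degreePrimes_mono_normal N hq,
      degreePrimes_mono_normal N hr⟩

end Cfsg.Agent.DegPrimes72
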